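import Cfsg.Agent.Lib.CharDegree.RelGraph.Hub

/-!
# Components of the relative degree graph
-/

set_option autoImplicit false

namespace CfsgLib.RelGraph

attribute [local instance 10000] MonoidHom.instCommGroup
attribute [-instance] MonoidHom.instPow MonoidHom.instInv MonoidHom.instDiv MonoidHom.mul MonoidHom.instZPow
attribute [local instance 20000] homOne

variable {G : Type*} [Group G] [Fintype G] {N : Subgroup G} [hN : N.Normal] [Fintype N]

local notation "Γ" => Cfsg.commonDivisorGraph.induce (Cfsg.relCharDegrees N)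

omit [Fintype G] hN [Fintype N] in
theorem reachable_of_gcd {a b : ↥(Cfsg.relCharDegrees N)} (h : 1 < Nat.gcd (a : ℕ) b) :
    (Γ).Reachable a b := by
  by_cases e : (a : ℕ) = b
  · rw [Subtype.ext e]
  · exact SimpleGraph.Adj.reachable (show Cfsg.commonDivisorGraph.Adj (a : ℕ) b from ⟨e, h⟩)

omit [Fintype G] hN [Fintype N] in
theorem reachable_of_dvd {a b : ↥(Cfsg.relCharDegrees N)} (ha0 : (a : ℕ) ≠ 0) {t : ℕ} (ht : 1 < t)
    (ha : t ∣ (a : ℕ)) (hb : t ∣ (b : ℕ)) : (Γ).Reachable a b :=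
  reachable_of_gcd (lt_of_lt_of_le ht
    (Nat.le_of_dvd (Nat.gcd_pos_of_pos_left _ (Nat.pos_of_ne_zero ha0)) (Nat.dvd_gcd ha hb)))

omit [Fintype G] hN [Fintype N] in
theorem degree_ne_zero (a : ↥(Cfsg.relCharDegrees N)) : (a : ℕ) ≠ 0 := by
  obtain ⟨χ, -, h⟩ := a.2
  exact h ▸ (CharDegree.charDegree_pos χ).ne'

theorem one_lt_index {r : ℕ} {l : N →* ℂˣ}
    (hno : ∀ l : N →* ℂˣ, IsR r l → (∀ g : G, cj g l = l) → l = 1) (hl : IsR r l) (hl1 : l ≠ 1) :
    1 < (stab (G := G) l).index := by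
  have h0 : (stab (G := G) l).index ≠ 0 := Subgroup.index_ne_zero_of_finite
  have h1 : (stab (G := G) l).index ≠ 1 := fun h => hl1 (hno l hl fun g =>
    mem_stab.1 (by rw [Subgroup.index_eq_one.1 h]; trivial))
  omega

variable (hNG : N ≤ commutator G) {r : ℕ} [Fact r.Prime]
include hNG

/-- Multiples of the orbit sizes of two small orbits are linked. -/
theorem reachable_of_orbits (hno : ∀ l : N →* ℂˣ, IsR r l → (∀ g : G, cj g l = l) → l = 1)
    {l l' : N →* ℂˣ} (hl : IsR r l) (hl1 : l ≠ 1) (hlr : ¬ r ∣ (stab (G := G) l).index)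
    (hl' : IsR r l') (hl1' : l' ≠ 1) (hlr' : ¬ r ∣ (stab (G := G) l').index)
    {a b : ↥(Cfsg.relCharDegrees N)} (ha : (stab (G := G) l).index ∣ (a : ℕ))
    (hb : (stab (G := G) l').index ∣ (b : ℕ)) : (Γ).Reachable a b := by
  by_cases hcop : (stab (G := G) l).index.Coprime (stab (G := G) l').index
  swap
  · obtain ⟨p, hp, hp1, hp2⟩ := Nat.Prime.not_coprime_iff_dvd.1 hcop
    exact reachable_of_dvd (degree_ne_zero a) hp.one_lt (hp1.trans ha) (hp2.trans hb)
  have hne : l * l' ≠ 1 := fun h => by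
    have : l' = l⁻¹ := eq_inv_of_mul_eq_one_right h
    rw [this, stab_inv, Nat.coprime_self] at hcop
    have := one_lt_index hno hl hl1
    omega
  have key : ∀ x y : N →* ℂˣ, IsR r x → IsR r y → y ≠ 1 → ¬ r ∣ (stab (G := G) x).index →
      (stab (G := G) x).index.Coprime (stab (G := G) y).index →
      ¬ (stab (G := G) (x * y)).index.Coprime (stab (G := G) y).index := by
    intro x y hx hy hy1 hxr hc hc'
    refine hy1 (hno y hy fun g => ?_)
    exact hy.fix_of_pow Fact.out hxr (pow_index_invariant x y hc hc' g)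
  obtain ⟨p, hp, hp1, hp2⟩ := Nat.Prime.not_coprime_iff_dvd.1 (key l l' hl hl' hl1' hlr hcop)
  obtain ⟨q, hq, hq1, hq2⟩ := Nat.Prime.not_coprime_iff_dvd.1
    (key l' l hl' hl hl1 hlr' hcop.symm)
  rw [mul_comm l' l] at hq1
  obtain ⟨c, hc, hcd⟩ := exists_over_linear hNG hne
  exact (reachable_of_dvd (b := ⟨c, hc⟩) (degree_ne_zero a) hq.one_lt (hq2.trans ha) (hq1.trans hcd)).trans
    (reachable_of_dvd (a := ⟨c, hc⟩) (degree_ne_zero _) hp.one_lt (hp1.trans hcd) (hp2.trans hb))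

/-- Without invariant characters, degrees prime to `r` are linked to the multiples of every small orbit. -/
theorem reachable_orbit (hno : ∀ l : N →* ℂˣ, IsR r l → (∀ g : G, cj g l = l) → l = 1)
    {l : N →* ℂˣ} (hl : IsR r l) (hl1 : l ≠ 1) (hlr : ¬ r ∣ (stab (G := G) l).index)
    (a : ↥(Cfsg.relCharDegrees N)) (ha : ¬ r ∣ (a : ℕ)) {b : ↥(Cfsg.relCharDegrees N)}
    (hb : (stab (G := G) l).index ∣ (b : ℕ)) : (Γ).Reachable a b := by
  rcases multiple_or_adj hNG hno a.2 ha with ⟨δ, hδ, hδ1, hδr, hδa⟩ | h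
  · exact reachable_of_orbits hNG hno hδ hδ1 hδr hl hl1 hlr hδa hb
  · obtain ⟨c, hc, hcd, hg⟩ := h l hl hl1
    exact (reachable_of_gcd (b := ⟨c, hc⟩) hg).trans
      (reachable_of_dvd (a := ⟨c, hc⟩) (degree_ne_zero _) (one_lt_index hno hl hl1) hcd hb)

/-- For a prime `r` dividing `|N : N'|` the degrees prime to `r` lie in one component, and so do those
divisible by `r`. -/
theorem reachable_same_side (hr : r ∣ (commutator N).index) {a b : ↥(Cfsg.relCharDegrees N)}
    (h : r ∣ (a : ℕ) ↔ r ∣ (b : ℕ)) : (Γ).Reachable a b := by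
  by_cases ha : r ∣ (a : ℕ)
  · exact reachable_of_dvd (degree_ne_zero a) (Fact.out : r.Prime).one_lt ha (h.1 ha)
  have hb : ¬ r ∣ (b : ℕ) := fun hb => ha (h.2 hb)
  by_cases hno : ∀ l : N →* ℂˣ, IsR r l → (∀ g : G, cj g l = l) → l = 1
  · obtain ⟨l, hl, hl1, hlr⟩ := exists_small_orbit (G := G) hr
    obtain ⟨c, hc, hcd⟩ := exists_over_linear hNG hl1
    exact (reachable_orbit hNG hno hl hl1 hlr a ha (b := ⟨c, hc⟩) hcd).trans
      (reachable_orbit hNG hno hl hl1 hlr b hb (b := ⟨c, hc⟩) hcd).symm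
  push Not at hno
  obtain ⟨l, hl, hinv, hl1⟩ := hno
  obtain ⟨c, hc, hrc, hga⟩ := exists_adj_of_invariant hNG hl hl1 hinv a.2 ha
  obtain ⟨c', hc', hrc', hgb⟩ := exists_adj_of_invariant hNG hl hl1 hinv b.2 hb
  exact (reachable_of_gcd (b := ⟨c, hc⟩) hga).trans
    ((reachable_of_dvd (a := ⟨c, hc⟩) (b := ⟨c', hc'⟩) (degree_ne_zero _) (Fact.out : r.Prime).one_lt
      hrc hrc').trans (reachable_of_gcd (a := b) (b := ⟨c', hc'⟩) hgb).symm)

/-- With an invariant character of `r`-power order, the graph is connected. -/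
theorem reachable_of_invariant {l : N →* ℂˣ} (hl : IsR r l) (hl1 : l ≠ 1)
    (hinv : ∀ g : G, cj g l = l) (a b : ↥(Cfsg.relCharDegrees N)) : (Γ).Reachable a b := by
  have h : ∀ x : ↥(Cfsg.relCharDegrees N), ∃ c : ↥(Cfsg.relCharDegrees N),
      r ∣ (c : ℕ) ∧ (Γ).Reachable x c := fun x => by
    by_cases hx : r ∣ (x : ℕ)
    · exact ⟨x, hx, SimpleGraph.Reachable.refl x⟩
    · obtain ⟨c, hc, hrc, hg⟩ := exists_adj_of_invariant hNG hl hl1 hinv x.2 hx
      exact ⟨⟨c, hc⟩, hrc, reachable_of_gcd hg⟩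
  obtain ⟨c, hc, h1⟩ := h a
  obtain ⟨c', hc', h2⟩ := h b
  exact h1.trans ((reachable_of_dvd (degree_ne_zero c) (Fact.out : r.Prime).one_lt hc hc').trans h2.symm)

/-- A degree divisible by `r` but not `s` and one divisible by `s` but not `r` are linked. -/
theorem reachable_cross {s : ℕ} [Fact s.Prime] (hr : r ∣ (commutator N).index)
    (hs : s ∣ (commutator N).index) (hrs : r ≠ s) {a b : ↥(Cfsg.relCharDegrees N)}
    (has : ¬ s ∣ (a : ℕ)) (hbr : ¬ r ∣ (b : ℕ)) : (Γ).Reachable a b := by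
  by_cases hno : ∀ l : N →* ℂˣ, IsR r l → (∀ g : G, cj g l = l) → l = 1
  swap
  · push Not at hno
    obtain ⟨l, hl, hinv, hl1⟩ := hno
    exact reachable_of_invariant hNG hl hl1 hinv a b
  by_cases hno' : ∀ l : N →* ℂˣ, IsR s l → (∀ g : G, cj g l = l) → l = 1
  swap
  · push Not at hno'
    obtain ⟨l, hl, hinv, hl1⟩ := hno'
    exact reachable_of_invariant hNG hl hl1 hinv a b
  obtain ⟨l, hl, hl1, hlr⟩ := exists_small_orbit (G := G) hr
  obtain ⟨l', hl', hl1', hlr'⟩ := exists_small_orbit (G := G) hs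
  have h1 : stab (G := G) (l * l') ≤ stab l := stab_mul_le_left Fact.out Fact.out hrs hl hl'
  have h2 : stab (G := G) (l * l') ≤ stab l' := by
    rw [mul_comm l l']
    exact stab_mul_le_left Fact.out Fact.out hrs.symm hl' hl
  have hne : l * l' ≠ 1 := fun h => by
    have htop : ∀ g : G, cj g l = l := fun g => mem_stab.1 (h1 (by
      rw [h]; exact mem_stab.2 (map_one _)))
    exact hl1 (hno l hl htop)
  obtain ⟨c, hc, hcd⟩ := exists_over_linear hNG hne
  exact (reachable_orbit hNG hno' hl' hl1' hlr' a has (b := ⟨c, hc⟩)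
      ((Subgroup.index_dvd_of_le h2).trans hcd)).trans
    (reachable_orbit hNG hno hl hl1 hlr b hbr (b := ⟨c, hc⟩)
      ((Subgroup.index_dvd_of_le h1).trans hcd)).symm

end CfsgLib.RelGraph
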