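import Cfsg.Agent.Lib.Char.CliffordCorr
import Cfsg.Agent.Lib.Char.Extension
import Cfsg.Agent.Lib.CharDegree.Twist
import Cfsg.Prelude.Def_DegreeGraph
import Cfsg.Agent.Lib.CharDegree.ThreeDegrees.Basic
import Mathlib.LinearAlgebra.Determinant

/-!
# Determinants of characters on a normal subgroup of the derived subgroup
-/

set_option autoImplicit false

namespace CfsgLib.RelGraph

open CfsgLib.Char CfsgLib.CharDegree CfsgLib.CharExt
attribute [local instance 10000] MonoidHom.instCommGroup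
attribute [-instance] MonoidHom.instPow MonoidHom.instInv MonoidHom.instDiv MonoidHom.mul MonoidHom.instZPow

/-- The identity of the group of linear characters, seen through the group structure. -/
abbrev homOne (H : Type*) [Group H] : One (H →* ℂˣ) :=
  @MulOne.toOne _ (@MulOneClass.toMulOne _ Monoid.toMulOneClass)

attribute [local instance 20000] homOne

open scoped Classical

section Det

variable {H : Type*} [Group H] [Finite H]

/-- The character `f` is afforded with determinant `δ`. -/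
def HasDet (f : H → ℂ) (δ : H →* ℂˣ) : Prop :=
  ∃ (k : ℕ) (ρ : Representation ℂ H (Fin k → ℂ)), ρ.character = f ∧ detHom ρ = δ

theorem HasDet.unique {f : H → ℂ} {δ ε : H →* ℂˣ} (h : HasDet f δ) (h' : HasDet f ε) : δ = ε := by
  obtain ⟨k, ρ, hρ, rfl⟩ := h
  obtain ⟨m, σ, hσ, rfl⟩ := h'
  exact detHom_eq_of_character_eq ρ σ (hρ.trans hσ.symm)

theorem hasDet_rep {V : Type*} [AddCommGroup V] [Module ℂ V] [FiniteDimensional ℂ V]
    (ρ : Representation ℂ H V) : HasDet ρ.character (detHom ρ) := by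
  obtain ⟨k, σ, hσ⟩ := isCharacter_rep ρ
  exact ⟨k, σ, hσ, detHom_eq_of_character_eq σ ρ hσ⟩

theorem HasDet.add {f g : H → ℂ} {δ ε : H →* ℂˣ} (h : HasDet f δ) (h' : HasDet g ε) :
    HasDet (f + g) (δ * ε) := by
  obtain ⟨k, ρ, rfl, rfl⟩ := h
  obtain ⟨m, σ, rfl, rfl⟩ := h'
  have e1 : (ρ.prod σ).character = ρ.character + σ.character :=
    funext fun x => LinearMap.trace_prodMap' (ρ x) (σ x)
  have e2 : detHom (ρ.prod σ) = detHom ρ * detHom σ := MonoidHom.ext fun x => Units.ext (by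
    rw [MonoidHom.mul_apply, Units.val_mul, detHom_apply, detHom_apply, detHom_apply]
    exact LinearMap.det_prodMap (ρ x) (σ x))
  exact e1 ▸ e2 ▸ hasDet_rep (ρ.prod σ)

theorem hasDet_zero : HasDet (0 : H → ℂ) 1 := by
  refine ⟨0, 1, funext fun g => ?_, MonoidHom.ext fun g => Units.ext ?_⟩
  · rw [Representation.character, Subsingleton.elim ((1 : Representation ℂ H (Fin 0 → ℂ)) g) 0,
      map_zero, Pi.zero_apply]
  · simp [detHom_apply]

theorem HasDet.sum {ι : Type*} (s : Finset ι) (f : ι → H → ℂ) (δ : ι → H →* ℂˣ)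
    (h : ∀ i ∈ s, HasDet (f i) (δ i)) : HasDet (∑ i ∈ s, f i) (∏ i ∈ s, δ i) := by
  induction s using Finset.induction with
  | empty => simpa using hasDet_zero
  | insert a s ha ih =>
    rw [Finset.sum_insert ha, Finset.prod_insert ha]
    exact (h a (Finset.mem_insert_self a s)).add (ih fun i hi => h i (Finset.mem_insert_of_mem hi))

theorem HasDet.natCast_smul {f : H → ℂ} {δ : H →* ℂˣ} (h : HasDet f δ) (e : ℕ) :
    HasDet ((e : ℂ) • f) (δ ^ e) := by
  induction e with
  | zero =>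
    have e0 : δ ^ 0 = 1 := MonoidHom.ext fun x => by simp
    rw [Nat.cast_zero, zero_smul, e0]
    exact hasDet_zero
  | succ k ih =>
    have e1 : δ ^ (k + 1) = δ ^ k * δ := MonoidHom.ext fun x => by
      simp [pow_succ]
    rw [Nat.cast_succ, add_smul, one_smul, e1]
    exact ih.add h

theorem HasDet.comp {K : Type*} [Group K] [Finite K] {f : H → ℂ} {δ : H →* ℂˣ} (h : HasDet f δ)
    (φ : K →* H) : HasDet (fun x => f (φ x)) (δ.comp φ) := by
  obtain ⟨k, ρ, rfl, rfl⟩ := h
  exact ⟨k, ρ.comp φ, rfl, MonoidHom.ext fun x => Units.ext rfl⟩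

theorem hasDet_linear (l : H →* ℂˣ) : HasDet (fun x => (l x : ℂ)) l := by
  let ρ : Representation ℂ H ℂ :=
    { toFun := fun g => (l g : ℂ) • LinearMap.id
      map_one' := by ext; simp
      map_mul' := fun a b => by ext; simp [mul_comm] }
  have e1 : ρ.character = fun g => (l g : ℂ) := funext fun g => by
    show LinearMap.trace ℂ ℂ ((l g : ℂ) • LinearMap.id) = _
    simp
  have e2 : detHom ρ = l := MonoidHom.ext fun g => Units.ext (by
    rw [detHom_apply]
    show LinearMap.det ((l g : ℂ) • (LinearMap.id : ℂ →ₗ[ℂ] ℂ)) = _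
    simp)
  simpa [e1, e2] using hasDet_rep ρ

theorem exists_hasDet (θ : Cfsg.IrrCharacter H) : ∃ δ, HasDet (θ : H → ℂ) δ := by
  obtain ⟨k, ρ, -, hρ, -⟩ := exists_rep θ
  exact ⟨detHom ρ, k, ρ, hρ, rfl⟩

/-- The determinant of an irreducible character. -/
noncomputable def irrDet (θ : Cfsg.IrrCharacter H) : H →* ℂˣ := (exists_hasDet θ).choose

theorem irrDet_spec (θ : Cfsg.IrrCharacter H) : HasDet (θ : H → ℂ) (irrDet θ) :=
  (exists_hasDet θ).choose_spec

theorem irrDet_twist (θ : Cfsg.IrrCharacter H) (l : H →* ℂˣ) :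
    irrDet (twist θ l) = l ^ Cfsg.charDegree (θ : H → ℂ) * irrDet θ := by
  obtain ⟨k, ρ, hρ, hd⟩ := irrDet_spec θ
  have hk : Module.finrank ℂ (Fin k → ℂ) = Cfsg.charDegree (θ : H → ℂ) := by
    refine (charDegree_eq_of_apply_one ?_).symm
    rw [← hρ, Representation.char_one]
  refine (irrDet_spec (twist θ l)).unique ?_
  have e1 : (twistRep ρ l).character = (twist θ l : H → ℂ) := by
    rw [character_twistRep, hρ]
    exact funext fun g => mul_comm _ _
  rw [← e1, ← hk, ← hd, ← detHom_twistRep]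
  exact hasDet_rep _

end Det

section Normal

variable {G : Type*} [Group G] {N : Subgroup G} [hN : N.Normal]

/-- Conjugation on the linear characters of a normal subgroup. -/
def cj (g : G) : (N →* ℂˣ) →* (N →* ℂˣ) where
  toFun l := l.comp (MulAut.conjNormal g).toMonoidHom
  map_one' := rfl
  map_mul' _ _ := rfl

theorem cj_apply (g : G) (l : N →* ℂˣ) (n : N) : cj g l n = l (MulAut.conjNormal g n) := rfl

theorem cj_mul (g h : G) (l : N →* ℂˣ) : cj (g * h) l = cj h (cj g l) := MonoidHom.ext fun n => by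
  rw [cj_apply, cj_apply, cj_apply, map_mul, MulAut.mul_apply]

theorem cj_one (l : N →* ℂˣ) : cj (1 : G) l = l := MonoidHom.ext fun n => by
  rw [cj_apply, map_one, MulAut.one_apply]

/-- The stabilizer of a linear character. -/
def stab (l : N →* ℂˣ) : Subgroup G where
  carrier := {g | cj g l = l}
  one_mem' := cj_one l
  mul_mem' {a b} ha hb := by
    show cj (a * b) l = l
    rw [cj_mul, show cj a l = l from ha, show cj b l = l from hb]
  inv_mem' {a} ha := by
    show cj a⁻¹ l = l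
    conv_lhs => rw [← show cj a l = l from ha]
    rw [← cj_mul, mul_inv_cancel, cj_one]

theorem mem_stab {l : N →* ℂˣ} {g : G} : g ∈ stab l ↔ cj g l = l := Iff.rfl

variable [Fintype G] [Fintype N]

theorem hasDet_conjFn (θ : Cfsg.IrrCharacter N) (g : G) :
    HasDet (Clifford.conjFn hN (θ : N → ℂ) g) (cj g (irrDet θ)) := by
  have h := (irrDet_spec θ).comp (MulAut.conjNormal g : MulAut N).toMonoidHom
  have e : Clifford.conjFn hN (θ : N → ℂ) g =
      fun x => (θ : N → ℂ) ((MulAut.conjNormal g : MulAut N).toMonoidHom x) :=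
    funext fun n => congrArg (θ : N → ℂ) (Subtype.ext (MulAut.conjNormal_apply g n).symm)
  rw [e]
  exact h

theorem inertia_le_stab (θ : Cfsg.IrrCharacter N) :
    Clifford.inertia hN (θ : N → ℂ) ≤ stab (irrDet θ) := fun g hg => by
  have h := hasDet_conjFn θ g
  rw [Clifford.mem_inertia.1 hg] at h
  exact h.unique (irrDet_spec θ)

/-- Clifford's theorem for determinants, when the subgroup lies in the derived one. -/
theorem exists_over_det (hNG : N ≤ commutator G) (θ : Cfsg.IrrCharacter N)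
    (U : Subgroup G) [Fintype (G ⧸ U)] (hU : U = Clifford.inertia hN (θ : N → ℂ))
    (χ : Cfsg.IrrCharacter G)
    (hχ : Cfsg.classInner (fun n : N => (χ : G → ℂ) n) (θ : N → ℂ) ≠ 0) :
    ∃ e : ℕ, Cfsg.charDegree (χ : G → ℂ) = e * U.index * Cfsg.charDegree (θ : N → ℂ) ∧
      (∏ q : G ⧸ U, cj q.out⁻¹ (irrDet θ)) ^ e = 1 := by
  obtain ⟨e, he⟩ := IsChar.classInner_eq_natCast (IsChar.restrict N (IsIrr.isCharacter χ.2))
    (IsIrr.isCharacter θ.2)
  refine ⟨e, ?_, ?_⟩
  · refine charDegree_eq_of_apply_one ?_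
    rw [Clifford.degree_eq hN θ.2 χ.2 hχ, he, ← hU, Nat.cast_mul, Nat.cast_mul, cast_irrDegree]
  have hwd : ∀ a b : G, (a : G ⧸ U) = b ↔
      Clifford.conjFn hN (θ : N → ℂ) a⁻¹ = Clifford.conjFn hN (θ : N → ℂ) b⁻¹ := by
    intro a b
    rw [QuotientGroup.eq, hU, Clifford.mem_inertia, Clifford.conjFn_mul]
    constructor
    · intro h
      conv_rhs => rw [← h]
      rw [← Clifford.conjFn_mul, ← Clifford.conjFn_mul, mul_inv_cancel, mul_one]
    · intro h
      rw [h, ← Clifford.conjFn_mul, inv_mul_cancel, Clifford.conjFn_one]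
  have hsum : ∑ ψ ∈ Finset.univ.image (Clifford.conjFn hN (θ : N → ℂ)), ψ =
      ∑ q : G ⧸ U, Clifford.conjFn hN (θ : N → ℂ) q.out⁻¹ := by
    refine (Finset.sum_nbij (fun q : G ⧸ U => Clifford.conjFn hN (θ : N → ℂ) q.out⁻¹)
      (fun q _ => by simp) ?_ ?_ (fun _ _ => rfl)).symm
    · intro a _ b _ hab
      rw [← QuotientGroup.out_eq' a, ← QuotientGroup.out_eq' b, hwd]
      exact hab
    · intro ψ hψ
      obtain ⟨g, -, rfl⟩ := Finset.mem_image.mp (Finset.mem_coe.mp hψ)
      refine ⟨((g⁻¹ : G) : G ⧸ U), Finset.mem_coe.mpr (Finset.mem_univ _), ?_⟩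
      have h := (hwd ((g⁻¹ : G) : G ⧸ U).out g⁻¹).mp (QuotientGroup.out_eq' _)
      rwa [inv_inv] at h
  have hres := Clifford.restrict_eq_smul_orbit_sum hN χ.2 θ.2 hχ
  rw [he] at hres
  obtain ⟨k, ρ, hρ, -⟩ := irrDet_spec χ
  have h1 : HasDet (fun n : N => (χ : G → ℂ) n) ((detHom ρ).comp N.subtype) := by
    have := (hasDet_rep ρ).comp N.subtype
    rwa [hρ] at this
  have h2 := (HasDet.sum Finset.univ (fun q : G ⧸ U => Clifford.conjFn hN (θ : N → ℂ) q.out⁻¹) _
    (fun q _ => hasDet_conjFn θ q.out⁻¹)).natCast_smul e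
  have h3 : (fun n : N => (χ : G → ℂ) n) =
      (e : ℂ) • ∑ q : G ⧸ U, Clifford.conjFn hN (θ : N → ℂ) q.out⁻¹ := by
    rw [hres, ← hsum]
  rw [h3] at h1
  rw [h2.unique h1]
  exact MonoidHom.ext fun n =>
    MonoidHom.mem_ker.1 (Abelianization.commutator_subset_ker (detHom ρ) (hNG n.2))

/-- A nonprincipal character has a relative degree over it. -/
theorem mem_relCharDegrees (θ : Cfsg.IrrCharacter N) (hθ : (θ : N → ℂ) ≠ fun _ => 1)
    (χ : Cfsg.IrrCharacter G)
    (hχ : Cfsg.classInner (fun n : N => (χ : G → ℂ) n) (θ : N → ℂ) ≠ 0) :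
    Cfsg.charDegree (χ : G → ℂ) ∈ Cfsg.relCharDegrees N := by
  refine ⟨χ, ?_, rfl⟩
  by_contra h
  push Not at h
  refine hχ ?_
  have e : (fun n : N => (χ : G → ℂ) n) = ((χ : G → ℂ) 1) • fun _ : N => (1 : ℂ) :=
    funext fun n => by simp [h n n.2]
  rw [e, classInner_smul_left,
    classInner_irr_of_ne (χ := ⟨_, isIrrCharacter_one⟩) (ψ := θ) (fun e' => hθ (congrArg Subtype.val e').symm),
    mul_zero]

/-- A relative degree comes from a nonprincipal constituent. -/
theorem exists_constituent_nonprincipal {a : ℕ} (ha : a ∈ Cfsg.relCharDegrees N) :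
    ∃ (χ : Cfsg.IrrCharacter G) (θ : Cfsg.IrrCharacter N), Cfsg.charDegree (χ : G → ℂ) = a ∧
      (θ : N → ℂ) ≠ (fun _ => 1) ∧
      Cfsg.classInner (fun n : N => (χ : G → ℂ) n) (θ : N → ℂ) ≠ 0 := by
  obtain ⟨χ, ⟨x, hx, hne⟩, rfl⟩ := ha
  obtain ⟨θ, hθ⟩ := Clifford.exists_constituent
    (IsChar.isClassFunction (IsChar.restrict N (IsIrr.isCharacter χ.2))) fun h =>
      IsIrr.apply_one_ne_zero χ.2 (by simpa using congrFun h 1)
  refine ⟨χ, θ, rfl, fun h1 => hne ?_, hθ⟩
  have hres := Clifford.restrict_eq_smul_orbit_sum hN χ.2 θ.2 hθ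
  have hone : Finset.univ.image (Clifford.conjFn hN (θ : N → ℂ)) = {fun _ : N => (1 : ℂ)} := by
    rw [h1]
    exact (Finset.image_congr (g := fun _ => fun _ : N => (1 : ℂ)) fun _ _ => rfl).trans
      (Finset.image_const Finset.univ_nonempty _)
  rw [hone, Finset.sum_singleton] at hres
  exact (congrFun hres ⟨x, hx⟩).trans (congrFun hres 1).symm

end Normal

end CfsgLib.RelGraph
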