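import Cfsg.Agent.Lib.CharDegree.RelGraph.Det
import Cfsg.Agent.Lib.Core.Hall
import Mathlib.GroupTheory.PGroup
import Mathlib.GroupTheory.Sylow
import Mathlib.GroupTheory.FiniteAbelian.Duality
import Mathlib.Analysis.Complex.Polynomial.Basic

/-!
# The relative degree graph over a subgroup of the derived subgroup

For a prime `r` dividing the index of the derived subgroup of `N` in `N`, the relative degrees prime to `r`
are all linked to the degrees over linear characters of `N` of `r`-power order with stabilizer of index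
prime to `r`.
-/

set_option autoImplicit false

namespace CfsgLib.RelGraph

open CfsgLib.Char CfsgLib.CharDegree CfsgLib.CharExt
attribute [local instance 10000] MonoidHom.instCommGroup
attribute [-instance] MonoidHom.instPow MonoidHom.instInv MonoidHom.instDiv MonoidHom.mul MonoidHom.instZPow
attribute [local instance 20000] homOne

open scoped Classical

variable {G : Type*} [Group G] {N : Subgroup G}

/-- A linear character of `r`-power order. -/
def IsR (r : ℕ) (l : N →* ℂˣ) : Prop := ∃ k, l ^ r ^ k = 1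

theorem IsR.mul {r : ℕ} {l l' : N →* ℂˣ} (h : IsR r l) (h' : IsR r l') : IsR r (l * l') := by
  obtain ⟨k, hk⟩ := h
  obtain ⟨m, hm⟩ := h'
  exact ⟨k + m, by rw [mul_pow, pow_add, pow_mul, hk, one_pow, one_mul, mul_comm, pow_mul, hm, one_pow]⟩

theorem IsR.inv {r : ℕ} {l : N →* ℂˣ} (h : IsR r l) : IsR r l⁻¹ :=
  h.imp fun k hk => by
    rw [inv_pow, hk]
    exact inv_one (G := N →* ℂˣ)

theorem IsR.pow {r : ℕ} {l : N →* ℂˣ} (h : IsR r l) (n : ℕ) : IsR r (l ^ n) :=
  h.imp fun k hk => by rw [← pow_mul, mul_comm, pow_mul, hk, one_pow]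

theorem IsR.eq_one {r : ℕ} (hr : r.Prime) {l : N →* ℂˣ} (h : IsR r l) {n : ℕ} (hn : ¬ r ∣ n)
    (he : l ^ n = 1) : l = 1 := by
  obtain ⟨k, hk⟩ := h
  refine orderOf_eq_one_iff.1 (Nat.eq_one_of_dvd_coprimes
    ((Nat.Coprime.pow_left k) ((hr.coprime_iff_not_dvd).2 hn))
    (orderOf_dvd_of_pow_eq_one hk) (orderOf_dvd_of_pow_eq_one he))

theorem IsR.prod {r : ℕ} {ι : Type*} (s : Finset ι) (f : ι → N →* ℂˣ) (h : ∀ i, IsR r (f i)) :
    IsR r (∏ i ∈ s, f i) := by
  induction s using Finset.induction with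
  | empty => exact ⟨0, by simp⟩
  | insert a s ha ih => rw [Finset.prod_insert ha]; exact (h a).mul ih

variable [hN : N.Normal]

theorem IsR.cj {r : ℕ} {l : N →* ℂˣ} (h : IsR r l) (g : G) : IsR r (RelGraph.cj g l) :=
  h.imp fun k hk => by rw [← map_pow, hk, map_one]

/-- A power prime to the order detects the stabilizer. -/
theorem IsR.fix_of_pow {r : ℕ} (hr : r.Prime) {l : N →* ℂˣ} (h : IsR r l) {n : ℕ} (hn : ¬ r ∣ n)
    {g : G} (hg : RelGraph.cj g (l ^ n) = l ^ n) : RelGraph.cj g l = l := by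
  refine mul_inv_eq_one.1 (IsR.eq_one hr ((h.cj g).mul h.inv) hn ?_)
  rw [mul_pow, inv_pow, ← map_pow, hg]
  exact mul_inv_cancel (l ^ n)

theorem stab_inv (l : N →* ℂˣ) : stab (G := G) l⁻¹ = stab l :=
  SetLike.ext fun g => by
    rw [mem_stab, mem_stab, map_inv]
    exact inv_inj (G := N →* ℂˣ)

theorem stab_mul_le_left {r s : ℕ} (hr : r.Prime) (hs : s.Prime) (hrs : r ≠ s) {l l' : N →* ℂˣ}
    (h : IsR r l) (h' : IsR s l') : stab (G := G) (l * l') ≤ stab l := by
  intro g hg
  obtain ⟨k, hk⟩ := h'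
  refine h.fix_of_pow hr (n := s ^ k) (fun hd => hrs ((Nat.prime_dvd_prime_iff_eq hr hs).1
    (hr.dvd_of_dvd_pow hd))) ?_
  rw [← mul_one (l ^ _), ← hk, ← mul_pow, map_pow, mem_stab.1 hg]

variable [Fintype G] [Fintype N]

theorem inertia_linear (l : N →* ℂˣ) :
    Clifford.inertia hN (fun n => (l n : ℂ)) = stab l := by
  refine SetLike.ext fun g => ?_
  rw [Clifford.mem_inertia, mem_stab]
  constructor
  · intro h
    refine MonoidHom.ext fun n => Units.ext ?_
    have e := congrFun h n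
    rw [Clifford.conjFn_apply] at e
    rw [cj_apply, ← e]
    exact congrArg (fun z => (l z : ℂ)) (Subtype.ext (MulAut.conjNormal_apply g n))
  · intro h
    funext n
    rw [Clifford.conjFn_apply]
    conv_rhs => rw [← h, cj_apply]
    exact congrArg (fun z => (l z : ℂ)) (Subtype.ext (MulAut.conjNormal_apply g n).symm)

theorem card_orbit_cj (l : N →* ℂˣ) :
    (Finset.univ.image fun g : G => cj g l).card = (stab (G := G) l).index := by
  have hwd : ∀ a b : G, (a : G ⧸ stab l) = b ↔ cj a⁻¹ l = cj b⁻¹ l := by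
    intro a b
    rw [QuotientGroup.eq, mem_stab, cj_mul]
    constructor
    · intro h
      conv_rhs => rw [← h]
      rw [← cj_mul, ← cj_mul, mul_inv_cancel, mul_one]
    · intro h
      rw [h, ← cj_mul, inv_mul_cancel, cj_one]
  have : Fintype (G ⧸ stab (G := G) l) := Fintype.ofFinite _
  rw [Subgroup.index, Nat.card_eq_fintype_card, ← Finset.card_univ]
  symm
  refine Finset.card_nbij (fun q => cj q.out⁻¹ l) (fun q _ => by simp) ?_ ?_
  · intro a _ b _ hab
    rw [← QuotientGroup.out_eq' a, ← QuotientGroup.out_eq' b, hwd]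
    exact hab
  · intro m hm
    obtain ⟨g, -, rfl⟩ := Finset.mem_image.mp (Finset.mem_coe.mp hm)
    refine ⟨((g⁻¹ : G) : G ⧸ stab l), Finset.mem_coe.mpr (Finset.mem_univ _), ?_⟩
    have h := (hwd ((g⁻¹ : G) : G ⧸ stab l).out g⁻¹).mp (QuotientGroup.out_eq' _)
    rwa [inv_inv] at h

theorem cj_orbit_prod (l : N →* ℂˣ) (g : G) :
    cj g (∏ x ∈ Finset.univ.image (fun g : G => cj g l), x) =
      ∏ x ∈ Finset.univ.image (fun g : G => cj g l), x := by
  have hinj : Function.Injective (cj g : (N →* ℂˣ) →* (N →* ℂˣ)) := fun a b h => by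
    have := congrArg (cj g⁻¹) h
    rwa [← cj_mul, ← cj_mul, mul_inv_cancel, cj_one, cj_one] at this
  rw [map_prod]
  have e : (Finset.univ.image (fun g : G => cj g l)).image (cj g) =
      Finset.univ.image (fun g : G => cj g l) := by
    refine Finset.eq_of_subset_of_card_le (fun x hx => ?_)
      (Finset.card_image_of_injective _ hinj).ge
    obtain ⟨y, hy, rfl⟩ := Finset.mem_image.1 hx
    obtain ⟨a, -, rfl⟩ := Finset.mem_image.1 hy
    exact Finset.mem_image.2 ⟨a * g, Finset.mem_univ _, cj_mul a g l⟩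
  conv_rhs => rw [← e]
  rw [Finset.prod_image hinj.injOn]

/-- Two stabilizer indices coprime to each other and to that of the product make the second character
invariant up to a power. -/
theorem pow_index_invariant (l l' : N →* ℂˣ)
    (h : (stab (G := G) l).index.Coprime (stab (G := G) l').index)
    (h' : (stab (G := G) (l * l')).index.Coprime (stab (G := G) l').index) (g : G) :
    cj g (l' ^ (stab (G := G) l).index) = l' ^ (stab (G := G) l).index := by
  have e : Finset.univ.image (fun g : G => cj g (l * l')) =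
      (Finset.univ.image fun g : G => cj g l).image (· * l') := by
    refine Finset.Subset.antisymm (fun x hx => ?_) (fun x hx => ?_)
    · obtain ⟨a, -, rfl⟩ := Finset.mem_image.1 hx
      obtain ⟨u, hu, v, hv, rfl⟩ := CfsgLib.Core.exists_mul_of_coprime_index h' a
      refine Finset.mem_image.2 ⟨cj v l, Finset.mem_image.2 ⟨v, Finset.mem_univ _, rfl⟩, ?_⟩
      rw [cj_mul, mem_stab.1 hu, map_mul, mem_stab.1 hv]
    · obtain ⟨y, hy, rfl⟩ := Finset.mem_image.1 hx
      obtain ⟨a, -, rfl⟩ := Finset.mem_image.1 hy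
      obtain ⟨u, hu, v, hv, rfl⟩ := CfsgLib.Core.exists_mul_of_coprime_index h a
      refine Finset.mem_image.2 ⟨v, Finset.mem_univ _, ?_⟩
      rw [cj_mul, mem_stab.1 hu, map_mul, mem_stab.1 hv]
  have h1 := cj_orbit_prod (G := G) (l * l') g
  rw [e, Finset.prod_image (mul_left_injective l').injOn, Finset.prod_mul_distrib, map_mul,
    cj_orbit_prod, Finset.prod_const, card_orbit_cj] at h1
  exact mul_left_cancel h1

variable (hNG : N ≤ commutator G) {r : ℕ} [Fact r.Prime]

/-- The exponent killing everything but the `r`-part. -/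
noncomputable def ordM (r : ℕ) (N : Subgroup G) : ℕ :=
  Nat.card N / r ^ (Nat.card N).factorization r

omit hN [Fintype G] in
theorem isR_pow_ordM (l : N →* ℂˣ) : IsR r (l ^ ordM r N) :=
  ⟨(Nat.card N).factorization r, by
    rw [← pow_mul, ordM, mul_comm, Nat.ordProj_mul_ordCompl_eq_self, hom_pow_card]⟩

omit hN [Fintype G] [Fintype N] in
theorem not_dvd_ordM [Finite N] : ¬ r ∣ ordM r N :=
  Nat.not_dvd_ordCompl (Fact.out : r.Prime) Nat.card_pos.ne'

omit hN [Fintype G] [Fintype N] in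
theorem coe_ne_one {l : N →* ℂˣ} (hl : l ≠ 1) : (fun n => (l n : ℂ)) ≠ fun _ : N => 1 := fun h =>
  hl (MonoidHom.ext fun n => Units.ext (congrFun h n))

include hNG

/-- Some relative degree lies over every nontrivial linear character. -/
theorem exists_over_linear {l : N →* ℂˣ} (hl : l ≠ 1) :
    ∃ c ∈ Cfsg.relCharDegrees N, (stab (G := G) l).index ∣ c := by
  obtain ⟨χ, hχ⟩ := ThreeDegrees.exists_over N ⟨_, isIrrCharacter_linear l⟩
  obtain ⟨e, he, -⟩ := exists_over_det hNG ⟨_, isIrrCharacter_linear l⟩ _ rfl χ hχ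
  refine ⟨_, mem_relCharDegrees _ (coe_ne_one hl) χ hχ, ?_⟩
  rw [he, ← inertia_linear l]
  exact dvd_mul_of_dvd_left (dvd_mul_left _ _) _

/-- The relative degree of a twist shares a factor with that of the constituent. -/
theorem exists_twist_degree {a : ℕ} (ha : ¬ r ∣ a) (χ : Cfsg.IrrCharacter G)
    (ψ : Cfsg.IrrCharacter N) (hdeg : Cfsg.charDegree (χ : G → ℂ) = a)
    (hψ1 : (ψ : N → ℂ) ≠ fun _ => 1)
    (hχ : Cfsg.classInner (fun n : N => (χ : G → ℂ) n) (ψ : N → ℂ) ≠ 0)
    {l : N →* ℂˣ} (hl : IsR r l)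
    (hI : Clifford.inertia hN (twist ψ l : N → ℂ) ≤ stab l)
    (hne : (twist ψ l : N → ℂ) ≠ fun _ => 1) :
    ∃ (χ' : Cfsg.IrrCharacter G),
      Cfsg.classInner (fun n : N => (χ' : G → ℂ) n) (twist ψ l : N → ℂ) ≠ 0 ∧
      Cfsg.charDegree (χ' : G → ℂ) ∈ Cfsg.relCharDegrees N ∧
      (stab (G := G) l).index ∣ Cfsg.charDegree (χ' : G → ℂ) ∧
      1 < Nat.gcd a (Cfsg.charDegree (χ' : G → ℂ)) := by
  obtain ⟨χ', hχ'⟩ := ThreeDegrees.exists_over N (twist ψ l)
  obtain ⟨e, he, hdet⟩ := exists_over_det hNG ψ _ rfl χ hχ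
  obtain ⟨e', he', hdet'⟩ := exists_over_det hNG (twist ψ l) _ rfl χ' hχ'
  set U := Clifford.inertia hN (ψ : N → ℂ) with hU
  set U' := Clifford.inertia hN (twist ψ l : N → ℂ) with hU'
  rw [charDegree_twist] at he'
  have hUU : U' ≤ U := by
    intro g hg
    rw [hU, Clifford.mem_inertia]
    funext n
    have h1 := congrFun (Clifford.mem_inertia.1 hg) n
    have h2 : l (MulAut.conjNormal g n) = l n := DFunLike.congr_fun (mem_stab.1 (hI hg)) n
    rw [Clifford.conjFn_apply, twist_apply, twist_apply] at h1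
    rw [show (⟨g * n * g⁻¹, hN.conj_mem n n.2 g⟩ : N) = MulAut.conjNormal g n from
      Subtype.ext (MulAut.conjNormal_apply g n).symm] at h1
    rw [h2] at h1
    rw [Clifford.conjFn_apply]
    rw [show (⟨g * n * g⁻¹, hN.conj_mem n n.2 g⟩ : N) = MulAut.conjNormal g n from
      Subtype.ext (MulAut.conjNormal_apply g n).symm]
    exact mul_right_cancel₀ (Units.ne_zero (l n)) h1
  refine ⟨χ', hχ', mem_relCharDegrees _ hne χ' hχ', ?_, ?_⟩
  · rw [he']
    exact ((Subgroup.index_dvd_of_le hI).trans (dvd_mul_left _ _)).trans (dvd_mul_right _ _)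
  rw [← hdeg, he]
  have ha0 : 0 < a := hdeg ▸ charDegree_pos χ
  have hgpos := Nat.gcd_pos_of_pos_left (Cfsg.charDegree (χ' : G → ℂ)) (he ▸ hdeg ▸ ha0 :
    0 < e * U.index * Cfsg.charDegree (ψ : N → ℂ))
  set d := Cfsg.charDegree (ψ : N → ℂ) with hd
  by_cases h1 : U.index * d = 1
  swap
  · have hdv : U.index * d ∣ Nat.gcd (e * U.index * d) (Cfsg.charDegree (χ' : G → ℂ)) := by
      refine Nat.dvd_gcd (mul_dvd_mul (dvd_mul_left _ _) dvd_rfl) ?_
      rw [he']
      exact mul_dvd_mul ((Subgroup.index_dvd_of_le hUU).trans (dvd_mul_left _ _)) dvd_rfl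
    have := Nat.le_of_dvd hgpos hdv
    have h0 : U.index * d ≠ 0 :=
      Nat.mul_ne_zero Subgroup.index_ne_zero_of_finite (charDegree_pos ψ).ne'
    omega
  -- an invariant linear constituent
  obtain ⟨hU1, hd1⟩ := mul_eq_one.1 h1
  obtain ⟨m, hm⟩ := exists_linear_of_degree_one (IsIrr.isCharacter ψ.2) ((charDegree_eq_one_iff ψ).1 hd1)
  have hψdet : irrDet ψ = m := (irrDet_spec ψ).unique (hm ▸ hasDet_linear m)
  have hinv : ∀ g : G, cj g m = m := fun g => by
    rw [← hψdet]
    exact mem_stab.1 (inertia_le_stab ψ (by rw [← hU, Subgroup.index_eq_one.1 hU1]; trivial))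
  have hma : m ^ a = 1 := by
    rw [hψdet, Finset.prod_congr rfl (fun q _ => hinv q.out⁻¹), Finset.prod_const, ← pow_mul,
      Finset.card_univ, ← Nat.card_eq_fintype_card, ← Subgroup.index_eq_card] at hdet
    rw [← hdeg, he, hd1, mul_one, mul_comm]
    exact hdet
  have hmM : m ^ ordM r N = 1 := (isR_pow_ordM m).eq_one (Fact.out) ha (by
    rw [← pow_mul, mul_comm, pow_mul, hma, one_pow])
  obtain ⟨k, hk⟩ : IsR r (∏ q : G ⧸ U', cj q.out⁻¹ l) := IsR.prod _ _ fun q => hl.cj _
  have hmc : m ^ (Cfsg.charDegree (χ' : G → ℂ) * r ^ k) = 1 := by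
    have e1 : ∀ q : G ⧸ U', cj q.out⁻¹ (irrDet (twist ψ l)) = m * cj q.out⁻¹ l := fun q => by
      rw [irrDet_twist, ← hd, hd1, pow_one, map_mul, hψdet, hinv]
      exact mul_comm (cj q.out⁻¹ l) m
    rw [Finset.prod_congr rfl (fun q _ => e1 q), Finset.prod_mul_distrib, Finset.prod_const,
      Finset.card_univ, ← Nat.card_eq_fintype_card, ← Subgroup.index_eq_card, mul_pow, ← pow_mul] at hdet'
    have e2 := congrArg (· ^ r ^ k) hdet'
    simp only [mul_pow, ← pow_mul, one_pow] at e2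
    rw [mul_comm e' (r ^ k), pow_mul _ (r ^ k), hk, one_pow, mul_one] at e2
    rw [he', hd1, mul_one]
    rwa [mul_comm e' U'.index]
  have hord : orderOf m ∣ Cfsg.charDegree (χ' : G → ℂ) := by
    refine Nat.Coprime.dvd_of_dvd_mul_right ?_ (orderOf_dvd_of_pow_eq_one hmc)
    exact ((Nat.Coprime.pow_left k ((Fact.out : r.Prime).coprime_iff_not_dvd.2 not_dvd_ordM)).symm).coprime_dvd_left
      (orderOf_dvd_of_pow_eq_one hmM)
  have hgd : orderOf m ∣ Nat.gcd (e * U.index * d) (Cfsg.charDegree (χ' : G → ℂ)) := by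
    rw [← he, hdeg]
    exact Nat.dvd_gcd (orderOf_dvd_of_pow_eq_one hma) hord
  have h2 := Nat.le_of_dvd hgpos hgd
  have h3 : orderOf m ≠ 1 := fun h => hψ1 (by
    rw [hm, orderOf_eq_one_iff.1 h]
    rfl)
  have h4 : 0 < orderOf m := orderOf_pos_iff.2 (isOfFinOrder_iff_pow_eq_one.2 ⟨a, ha0, hma⟩)
  omega

/-- With an invariant character of `r`-power order, every degree prime to `r` shares a factor with one
divisible by `r`. -/
theorem exists_adj_of_invariant {l : N →* ℂˣ} (hl : IsR r l) (hl1 : l ≠ 1) (hlinv : ∀ g : G, cj g l = l)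
    {a : ℕ} (ha : a ∈ Cfsg.relCharDegrees N) (har : ¬ r ∣ a) :
    ∃ c ∈ Cfsg.relCharDegrees N, r ∣ c ∧ 1 < Nat.gcd a c := by
  obtain ⟨χ, ψ, hdeg, hψ1, hχ⟩ := exists_constituent_nonprincipal ha
  have htop : stab (G := G) l = ⊤ := eq_top_iff.2 fun g _ => hlinv g
  obtain ⟨e, he, hdet⟩ := exists_over_det hNG ψ _ rfl χ hχ
  set U := Clifford.inertia hN (ψ : N → ℂ) with hU
  have hre : ¬ r ∣ e := fun h => har (hdeg ▸ he ▸ (h.trans (dvd_mul_right _ _)).trans (dvd_mul_right _ _))
  -- the orbit product of the `r`-part of the determinant is trivial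
  have hP : (∏ q : G ⧸ U, cj q.out⁻¹ (irrDet ψ)) ^ ordM r N = 1 :=
    (isR_pow_ordM _).eq_one Fact.out hre (by rw [← pow_mul, mul_comm, pow_mul, hdet, one_pow])
  have hl1' : l ^ ordM r N ≠ 1 := fun h => hl1 (hl.eq_one Fact.out not_dvd_ordM h)
  have hU' : Clifford.inertia hN (twist ψ l : N → ℂ) = U := by
    refine SetLike.ext fun g => ?_
    rw [hU, Clifford.mem_inertia, Clifford.mem_inertia, funext_iff, funext_iff]
    refine forall_congr' fun n => ?_
    rw [Clifford.conjFn_apply, Clifford.conjFn_apply, twist_apply, twist_apply]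
    rw [show (⟨g * n * g⁻¹, hN.conj_mem n n.2 g⟩ : N) = MulAut.conjNormal g n from
      Subtype.ext (MulAut.conjNormal_apply g n).symm]
    rw [show l (MulAut.conjNormal g n) = l n from DFunLike.congr_fun (hlinv g) n]
    exact mul_left_inj' (Units.ne_zero (l n))
  have key : ∀ e' : ℕ, (∏ q : G ⧸ U, cj q.out⁻¹ (irrDet (twist ψ l))) ^ e' = 1 →
      r ∣ e' * U.index * Cfsg.charDegree (ψ : N → ℂ) := by
    intro e' h
    by_contra hn
    refine hl1' ?_
    refine (hl.pow _).eq_one Fact.out hn ?_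
    simp only [irrDet_twist, map_mul, map_pow, hlinv, Finset.prod_mul_distrib, Finset.prod_const,
      Finset.card_univ, ← Nat.card_eq_fintype_card, ← Subgroup.index_eq_card] at h
    have h2 := congrArg (· ^ ordM r N) h
    simp only [mul_pow, ← pow_mul, one_pow] at h2
    rw [mul_comm e' (ordM r N), pow_mul _ (ordM r N), hP, one_pow, mul_one] at h2
    rw [← pow_mul, show ordM r N * (e' * U.index * Cfsg.charDegree (ψ : N → ℂ)) =
      Cfsg.charDegree (ψ : N → ℂ) * U.index * e' * ordM r N by ring]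
    exact h2
  have hne : (twist ψ l : N → ℂ) ≠ fun _ => 1 := by
    intro h
    have hd1 : Cfsg.charDegree (twist ψ l : N → ℂ) = 1 := by rw [h, charDegree_one]
    rw [charDegree_twist] at hd1
    have ht : irrDet (twist ψ l) = 1 := (irrDet_spec (twist ψ l)).unique (by
      rw [h]; exact hasDet_linear 1)
    have hU1 : U.index = 1 := by
      rw [← hU']
      have hinvt : Clifford.inertia hN (fun _ : N => (1 : ℂ)) = ⊤ := eq_top_iff.2 fun g _ => rfl
      rw [h, hinvt, Subgroup.index_top]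
    have hk := key 1 (by simp [ht])
    rw [hd1, hU1] at hk
    exact (Fact.out : r.Prime).ne_one (Nat.dvd_one.1 (by simpa using hk))
  obtain ⟨χ', hχ', hmem, -, hg⟩ := exists_twist_degree hNG har χ ψ hdeg hψ1 hχ hl
    (by rw [htop]; exact le_top) hne
  refine ⟨_, hmem, ?_, hg⟩
  obtain ⟨e', he', hdet'⟩ := exists_over_det hNG (twist ψ l) U hU'.symm χ' hχ'
  rw [charDegree_twist] at he'
  rw [he']
  exact key e' hdet'

/-- Without invariant characters of `r`-power order, every degree prime to `r` either is a multiple of the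
orbit size of such a character with orbit prime to `r`, or shares a factor with such multiples for all. -/
theorem multiple_or_adj (hno : ∀ l : N →* ℂˣ, IsR r l → (∀ g : G, cj g l = l) → l = 1)
    {a : ℕ} (ha : a ∈ Cfsg.relCharDegrees N) (har : ¬ r ∣ a) :
    (∃ δ : N →* ℂˣ, IsR r δ ∧ δ ≠ 1 ∧ ¬ r ∣ (stab (G := G) δ).index ∧ (stab (G := G) δ).index ∣ a) ∨
      ∀ l : N →* ℂˣ, IsR r l → l ≠ 1 →
        ∃ c ∈ Cfsg.relCharDegrees N, (stab (G := G) l).index ∣ c ∧ 1 < Nat.gcd a c := by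
  obtain ⟨χ, ψ, hdeg, hψ1, hχ⟩ := exists_constituent_nonprincipal ha
  obtain ⟨e, he, -⟩ := exists_over_det hNG ψ _ rfl χ hχ
  by_cases hδ : irrDet ψ ^ ordM r N = 1
  swap
  · left
    have hle : Clifford.inertia hN (ψ : N → ℂ) ≤ stab (irrDet ψ ^ ordM r N) := fun g hg => by
      rw [mem_stab, map_pow, mem_stab.1 (inertia_le_stab ψ hg)]
    have hdvd : (stab (G := G) (irrDet ψ ^ ordM r N)).index ∣ a := by
      rw [← hdeg, he]
      exact ((Subgroup.index_dvd_of_le hle).trans (dvd_mul_left _ _)).trans (dvd_mul_right _ _)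
    exact ⟨_, isR_pow_ordM _, hδ, fun h => har (h.trans hdvd), hdvd⟩
  right
  intro l hl hl1
  have hrd : ¬ r ∣ Cfsg.charDegree (ψ : N → ℂ) := fun h =>
    har (hdeg ▸ he ▸ h.trans (dvd_mul_left _ _))
  have hpow : irrDet (twist ψ l) ^ ordM r N = l ^ (Cfsg.charDegree (ψ : N → ℂ) * ordM r N) := by
    rw [irrDet_twist, mul_pow, hδ, mul_one, ← pow_mul]
  have hn : ¬ r ∣ Cfsg.charDegree (ψ : N → ℂ) * ordM r N := fun h =>
    ((Fact.out : r.Prime).dvd_mul.1 h).elim hrd not_dvd_ordM
  have hI : Clifford.inertia hN (twist ψ l : N → ℂ) ≤ stab l := fun g hg => by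
    refine hl.fix_of_pow Fact.out hn ?_
    rw [← hpow, map_pow, mem_stab.1 (inertia_le_stab _ hg)]
  have hne : (twist ψ l : N → ℂ) ≠ fun _ => 1 := fun h => hl1 (hno l hl fun g =>
    mem_stab.1 (hI (by rw [Clifford.mem_inertia, h]; rfl)))
  obtain ⟨χ', -, hmem, hd, hg⟩ := exists_twist_degree hNG har χ ψ hdeg hψ1 hχ hl hI hne
  exact ⟨_, hmem, hd, hg⟩

omit hNG in
/-- A prime divisor of `|N : N'|` gives a character of `r`-power order whose orbit is prime to `r`. -/
theorem exists_small_orbit (hr : r ∣ (commutator N).index) :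
    ∃ l : N →* ℂˣ, IsR r l ∧ l ≠ 1 ∧ ¬ r ∣ (stab (G := G) l).index := by
  have hA : r ∣ Nat.card (N →* ℂˣ) := by
    rw [Nat.card_congr (Abelianization.lift (G := N) (A := ℂˣ)),
      CommGroup.card_monoidHom_of_hasEnoughRootsOfUnity]
    rwa [Subgroup.index_eq_card] at hr
  haveI : Finite (N →* ℂˣ) := Nat.finite_of_card_ne_zero (by
    rw [Nat.card_congr (Abelianization.lift (G := N) (A := ℂˣ)),
      CommGroup.card_monoidHom_of_hasEnoughRootsOfUnity]
    exact Nat.card_pos.ne')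
  obtain ⟨x, hx⟩ := exists_prime_orderOf_dvd_card' r hA
  let φ : (N →* ℂˣ) →* (N →* ℂˣ) :=
    { toFun := fun l => l ^ r, map_one' := one_pow r, map_mul' := fun a b => mul_pow a b r }
  set R := φ.ker with hR
  have hRp : IsPGroup r R := fun y => ⟨1, Subtype.ext (by
    have h := y.2
    change (y : N →* ℂˣ) ^ r = 1 at h
    rw [pow_one, SubgroupClass.coe_pow, h]; rfl)⟩
  have hxR : x ∈ R := by
    show x ^ r = 1
    rw [← hx]
    exact pow_orderOf_eq_one x
  obtain ⟨k, hk⟩ := IsPGroup.iff_card.1 hRp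
  have hrR : r ∣ Nat.card R := by
    refine hk ▸ dvd_pow_self r fun h0 => ?_
    rw [h0, pow_zero, Subgroup.card_eq_one] at hk
    rw [hk, Subgroup.mem_bot] at hxR
    rw [hxR, orderOf_one] at hx
    exact (Fact.out : r.Prime).ne_one hx.symm
  obtain ⟨P⟩ : Nonempty (Sylow r G) := inferInstance
  letI : MulAction (P : Subgroup G) R :=
    { smul := fun g y => ⟨cj ((g : G)⁻¹) y, by
        have h := y.2
        show (cj ((g : G)⁻¹) (y : N →* ℂˣ)) ^ r = 1
        rw [← map_pow, show (y : N →* ℂˣ) ^ r = 1 from h, map_one]⟩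
      one_smul := fun y => Subtype.ext (by
        show cj ((1 : G)⁻¹) (y : N →* ℂˣ) = _
        rw [inv_one, cj_one])
      mul_smul := fun g g' y => Subtype.ext (by
        show cj (((g : G) * g')⁻¹) (y : N →* ℂˣ) = cj ((g : G)⁻¹) (cj ((g' : G)⁻¹) y)
        rw [mul_inv_rev, cj_mul]) }
  have h1 : (1 : R) ∈ MulAction.fixedPoints (P : Subgroup G) R := fun g => Subtype.ext (map_one _)
  obtain ⟨y, hy, hy1⟩ := P.2.exists_fixed_point_of_prime_dvd_card_of_fixed_point R hrR h1
  have hy' : (y : N →* ℂˣ) ^ r = 1 := by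
    have h := y.2
    exact h
  refine ⟨y, ⟨1, by rwa [pow_one]⟩, fun h => hy1 (Subtype.ext h.symm), fun hd => ?_⟩
  refine P.not_dvd_index (hd.trans (Subgroup.index_dvd_of_le fun g hg => ?_))
  have h := congrArg Subtype.val (hy ⟨g⁻¹, inv_mem hg⟩)
  rw [mem_stab]
  simpa using (show cj ((g⁻¹)⁻¹) (y : N →* ℂˣ) = y from h)

end CfsgLib.RelGraph
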