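import Cfsg.Agent.Lib.CharDegree.RelGraph.Components
import Cfsg.Agent.Lib.Char.Exceptional.NormalInd
import Mathlib.GroupTheory.Solvable

/-!
# The shape of a disconnected relative degree graph over a solvable subgroup

Two degrees in the component of the degrees prime to `|M : M'|` are near: recursion down the derived series.
-/

set_option autoImplicit false

namespace CfsgLib.RelGraph

open CfsgLib.Char CfsgLib.CharDegree
open scoped Classical

attribute [local instance 10000] MonoidHom.instCommGroup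
attribute [-instance] MonoidHom.instPow MonoidHom.instInv MonoidHom.instDiv MonoidHom.mul MonoidHom.instZPow
attribute [local instance 20000] homOne

variable {G : Type*} [Group G] [Fintype G]

theorem one_lt_gcd {a b t : ℕ} (ha : a ≠ 0) (ht : 1 < t) (h1 : t ∣ a) (h2 : t ∣ b) :
    1 < Nat.gcd a b :=
  lt_of_lt_of_le ht (Nat.le_of_dvd (Nat.gcd_pos_of_pos_left _ (Nat.pos_of_ne_zero ha)) (Nat.dvd_gcd h1 h2))

omit [Fintype G] in
theorem ne_zero_of_mem {N : Subgroup G} {a : ℕ} (h : a ∈ Cfsg.relCharDegrees N) : a ≠ 0 := by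
  obtain ⟨χ, -, h⟩ := h
  exact h ▸ (charDegree_pos χ).ne'

omit [Fintype G] in
theorem relCharDegrees_mono {M N : Subgroup G} (h : M ≤ N) {a : ℕ} (ha : a ∈ Cfsg.relCharDegrees M) :
    a ∈ Cfsg.relCharDegrees N := by
  obtain ⟨χ, ⟨x, hx, hne⟩, hd⟩ := ha
  exact ⟨χ, ⟨x, h hx, hne⟩, hd⟩

variable {M : Subgroup G} [hM : M.Normal] [Fintype M] (hMG : M ≤ commutator G)
include hMG

/-- A relative degree with a linear constituent is a multiple of some orbit size, or it survives in the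
derived subgroup. -/
theorem linear_or_derived {a : ℕ} (ha : a ∈ Cfsg.relCharDegrees M) :
    a ∈ Cfsg.relCharDegrees ((commutator M).map M.subtype) ∨
      ∃ (l : M →* ℂˣ), l ≠ 1 ∧ (stab (G := G) l).index ∣ a := by
  obtain ⟨χ, ψ, hdeg, hψ1, hχ⟩ := exists_constituent_nonprincipal ha
  by_cases hker : ∀ y ∈ (commutator M).map M.subtype, (χ : G → ℂ) y = (χ : G → ℂ) 1
  swap
  · push Not at hker
    obtain ⟨y, hy, hne⟩ := hker
    exact Or.inl ⟨χ, ⟨y, hy, hne⟩, hdeg⟩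
  right
  haveI := Fintype.ofFinite (Cfsg.IrrCharacter M)
  obtain ⟨m, hm⟩ := IsChar.exists_sum (IsChar.restrict M (IsIrr.isCharacter χ.2))
  have hmψ : m ψ ≠ 0 := by
    intro h
    apply hχ
    rw [show (fun n : M => (χ : G → ℂ) n) = ∑ φ, (m φ : ℂ) • (φ : M → ℂ) from hm,
      classInner_sum_irr, h, Nat.cast_zero]
  have hψker : ∀ n ∈ commutator M, (ψ : M → ℂ) n = (ψ : M → ℂ) 1 := fun n hn => by
    refine Exceptional.ker_of_constituent ?_ hmψ
    have := hker n (Subgroup.mem_map_of_mem _ hn)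
    rw [← hm]
    simpa using this
  obtain ⟨ψ₀, hψ₀⟩ := exists_infl (commutator M) ψ hψker
  have hd1 : Cfsg.charDegree (ψ : M → ℂ) = 1 := by
    rw [← hψ₀, charDegree_infl]
    exact charDegree_of_comm (fun a b => mul_comm (a : Abelianization M) b) ψ₀
  obtain ⟨l, hl⟩ := exists_linear_of_degree_one (IsIrr.isCharacter ψ.2) ((charDegree_eq_one_iff ψ).1 hd1)
  refine ⟨l, fun h => hψ1 (by rw [hl, h]; rfl), ?_⟩
  obtain ⟨e, he, -⟩ := exists_over_det hMG ψ _ rfl χ hχ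
  rw [← hdeg, he, ← inertia_linear l, ← hl]
  exact dvd_mul_of_dvd_left (dvd_mul_left _ _) _

omit hMG in
/-- A nontrivial linear character has a nontrivial `r`-part for some prime `r` dividing `|M : M'|`. -/
theorem exists_part {l : M →* ℂˣ} (hl : l ≠ 1) :
    ∃ r : ℕ, r.Prime ∧ r ∣ (commutator M).index ∧ l ^ ordM r M ≠ 1 := by
  haveI : Finite (M →* ℂˣ) := Nat.finite_of_card_ne_zero (by
    rw [Nat.card_congr (Abelianization.lift (G := M) (A := ℂˣ)),
      CommGroup.card_monoidHom_of_hasEnoughRootsOfUnity]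
    exact Nat.card_pos.ne')
  obtain ⟨r, hr, hrd⟩ := Nat.exists_prime_and_dvd (fun h => hl (orderOf_eq_one_iff.1 h))
  haveI := Fact.mk hr
  have hA : r ∣ Nat.card (M →* ℂˣ) := hrd.trans (orderOf_dvd_natCard l)
  refine ⟨r, hr, ?_, fun h => not_dvd_ordM (r := r) (N := M)
    (hrd.trans (orderOf_dvd_of_pow_eq_one h))⟩
  rw [Nat.card_congr (Abelianization.lift (G := M) (A := ℂˣ)),
    CommGroup.card_monoidHom_of_hasEnoughRootsOfUnity] at hA
  rwa [Subgroup.index_eq_card]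

/-- Two degrees that are multiples of small orbit sizes have a common neighbour. -/
theorem near_of_orbits {r : ℕ} [Fact r.Prime]
    (hno : ∀ l : M →* ℂˣ, IsR r l → (∀ g : G, cj g l = l) → l = 1)
    {l l' : M →* ℂˣ} (hl : IsR r l) (hl1 : l ≠ 1) (hlr : ¬ r ∣ (stab (G := G) l).index)
    (hl' : IsR r l') (hl1' : l' ≠ 1) (hlr' : ¬ r ∣ (stab (G := G) l').index) {a b : ℕ}
    (ha0 : a ≠ 0) (ha : (stab (G := G) l).index ∣ a) (hb : (stab (G := G) l').index ∣ b) :
    ∃ c ∈ Cfsg.relCharDegrees M, 1 < Nat.gcd a c ∧ 1 < Nat.gcd c b := by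
  by_cases hcop : (stab (G := G) l).index.Coprime (stab (G := G) l').index
  swap
  · obtain ⟨p, hp, hp1, hp2⟩ := Nat.Prime.not_coprime_iff_dvd.1 hcop
    obtain ⟨c, hc, hcd⟩ := exists_over_linear hMG hl1
    exact ⟨c, hc, one_lt_gcd ha0 hp.one_lt (hp1.trans ha) (hp1.trans hcd),
      one_lt_gcd (ne_zero_of_mem hc) hp.one_lt (hp1.trans hcd) (hp2.trans hb)⟩
  have hne : l * l' ≠ 1 := fun h => by
    have : l' = l⁻¹ := eq_inv_of_mul_eq_one_right h
    rw [this, stab_inv, Nat.coprime_self] at hcop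
    have := one_lt_index hno hl hl1
    omega
  have key : ∀ x y : M →* ℂˣ, IsR r x → IsR r y → y ≠ 1 → ¬ r ∣ (stab (G := G) x).index →
      (stab (G := G) x).index.Coprime (stab (G := G) y).index →
      ¬ (stab (G := G) (x * y)).index.Coprime (stab (G := G) y).index := by
    intro x y hx hy hy1 hxr hc hc'
    refine hy1 (hno y hy fun g => ?_)
    exact hy.fix_of_pow Fact.out hxr (pow_index_invariant x y hc hc' g)
  obtain ⟨p, hp, hp1, hp2⟩ := Nat.Prime.not_coprime_iff_dvd.1 (key l l' hl hl' hl1' hlr hcop)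
  obtain ⟨q, hq, hq1, hq2⟩ := Nat.Prime.not_coprime_iff_dvd.1
    (key l' l hl' hl hl1 hlr' hcop.symm)
  rw [mul_comm l' l] at hq1
  obtain ⟨c, hc, hcd⟩ := exists_over_linear hMG hne
  exact ⟨c, hc, one_lt_gcd ha0 hq.one_lt (hq2.trans ha) (hq1.trans hcd),
    one_lt_gcd (ne_zero_of_mem hc) hp.one_lt (hp1.trans hcd) (hp2.trans hb)⟩

omit hMG hM [Fintype M] in
theorem index_ne_one [Group.IsSolvable M] (hne : M ≠ ⊥) : (commutator M).index ≠ 1 := by
  intro h
  haveI : Nontrivial M := (Subgroup.nontrivial_iff_ne_bot M).2 hne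
  exact (Group.IsSolvable.commutator_lt_top_of_nontrivial M).ne (Subgroup.index_eq_one.1 h)

omit hMG hM [Fintype M] in
theorem card_derived_lt [Group.IsSolvable M] (hne : M ≠ ⊥) :
    Nat.card ((commutator M).map M.subtype) < Nat.card M := by
  rw [Subgroup.card_map_of_injective M.subtype_injective]
  have h1 := (commutator M).index_mul_card
  have h2 : 2 ≤ (commutator M).index := by
    have := index_ne_one hne
    have : (commutator M).index ≠ 0 := Subgroup.index_ne_zero_of_finite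
    omega
  have h3 : 0 < Nat.card (commutator M) := Nat.card_pos
  nlinarith

end CfsgLib.RelGraph

namespace CfsgLib.RelGraph

attribute [local instance 10000] MonoidHom.instCommGroup
attribute [-instance] MonoidHom.instPow MonoidHom.instInv MonoidHom.instDiv MonoidHom.mul MonoidHom.instZPow
attribute [local instance 20000] homOne

variable {G : Type*} [Group G] [Fintype G] {N : Subgroup G} [hN : N.Normal] (hNG : N ≤ commutator G)

local notation "Γ" => Cfsg.commonDivisorGraph.induce (Cfsg.relCharDegrees N)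

include hNG in
/-- Two degrees that are both unlinked to a third one have a common neighbour. -/
theorem near_of_not_reachable : ∀ (M : Subgroup G), M.Normal → M ≤ N → Group.IsSolvable M →
    ∀ x a b : ↥(Cfsg.relCharDegrees N), (x : ℕ) ∈ Cfsg.relCharDegrees M →
      (a : ℕ) ∈ Cfsg.relCharDegrees M → (b : ℕ) ∈ Cfsg.relCharDegrees M →
      ¬ (Γ).Reachable x a → ¬ (Γ).Reachable x b →
      ∃ c : ↥(Cfsg.relCharDegrees N), 1 < Nat.gcd (a : ℕ) c ∧ 1 < Nat.gcd (c : ℕ) b := by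
  classical
  intro M
  induction hn : Nat.card M using Nat.strong_induction_on generalizing M with
  | _ n ih =>
  intro hM hMN hsol x a b hx ha hb hxa hxb
  haveI := Fintype.ofFinite M
  haveI := hsol
  have hMG : M ≤ commutator G := hMN.trans hNG
  have hne : M ≠ ⊥ := by
    rintro rfl
    obtain ⟨χ, ⟨y, hy, hy'⟩, -⟩ := hx
    exact hy' (by rw [Subgroup.mem_bot.1 hy])
  -- transporting relative degrees of `M` to vertices
  have hup : ∀ {c : ℕ}, c ∈ Cfsg.relCharDegrees M → c ∈ Cfsg.relCharDegrees N :=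
    fun h => relCharDegrees_mono hMN h
  have hlink : ∀ (u v : ↥(Cfsg.relCharDegrees N)) (t : ℕ), 1 < t → t ∣ (u : ℕ) → t ∣ (v : ℕ) →
      (Γ).Reachable u v := fun u v t ht h1 h2 => reachable_of_dvd (degree_ne_zero u) ht h1 h2
  -- each prime divisor of `|M : M'|` divides `x` and neither of `a`, `b`, and has no invariant character
  have hM' : ∀ (u v : ↥(Cfsg.relCharDegrees M)),
      (Cfsg.commonDivisorGraph.induce (Cfsg.relCharDegrees M)).Reachable u v →
      (Γ).Reachable ⟨(u : ℕ), hup u.2⟩ ⟨(v : ℕ), hup v.2⟩ := fun u v h =>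
    SimpleGraph.Reachable.map
      ({ toFun := fun w => ⟨(w : ℕ), hup w.2⟩
         map_rel' := fun {_ _} h => h } :
        Cfsg.commonDivisorGraph.induce (Cfsg.relCharDegrees M) →g Γ) h
  have hsides : ∀ (s : ℕ) (hs : s.Prime), s ∣ (commutator M).index →
      (∀ l : M →* ℂˣ, IsR s l → (∀ g : G, cj g l = l) → l = 1) ∧
      s ∣ (x : ℕ) → ¬ s ∣ (a : ℕ) ∧ ¬ s ∣ (b : ℕ) := fun s hs _ h =>
    ⟨fun h' => hxa (hlink x a s hs.one_lt h.2 h'), fun h' => hxb (hlink x b s hs.one_lt h.2 h')⟩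
  have hfree : ∀ (s : ℕ) (hs : s.Prime), s ∣ (commutator M).index →
      ∀ l : M →* ℂˣ, IsR s l → (∀ g : G, cj g l = l) → l = 1 := by
    intro s hs _ l hl hinv
    haveI := Fact.mk hs
    by_contra hl1
    exact hxa (hM' ⟨x, hx⟩ ⟨a, ha⟩ (reachable_of_invariant hMG hl hl1 hinv _ _))
  by_cases hcom : ∃ s : ℕ, s.Prime ∧ s ∣ (a : ℕ) ∧ s ∣ (b : ℕ)
  · obtain ⟨s, hs, hsa, hsb⟩ := hcom
    exact ⟨a, one_lt_gcd (degree_ne_zero a) hs.one_lt hsa hsa,
      one_lt_gcd (degree_ne_zero a) hs.one_lt hsa hsb⟩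
  push Not at hcom
  have hprimes : ∀ (s : ℕ) (hs : s.Prime), s ∣ (commutator M).index →
      s ∣ (x : ℕ) ∧ ¬ s ∣ (a : ℕ) ∧ ¬ s ∣ (b : ℕ) := by
    intro s hs hsd
    haveI := Fact.mk hs
    have hxs : s ∣ (x : ℕ) := by
      by_contra hxs
      have h1 : s ∣ (a : ℕ) := by
        by_contra h
        exact hxa (hM' ⟨x, hx⟩ ⟨a, ha⟩ (reachable_same_side hMG hsd (show s ∣ (x : ℕ) ↔ s ∣ (a : ℕ) by tauto)))
      refine hxb (hM' ⟨x, hx⟩ ⟨b, hb⟩ (reachable_same_side hMG hsd (show s ∣ (x : ℕ) ↔ s ∣ (b : ℕ) from ?_)))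
      exact ⟨fun h => absurd h hxs, fun h => absurd h (hcom s hs h1)⟩
    exact ⟨hxs, hsides s hs hsd ⟨hfree s hs hsd, hxs⟩⟩
  have finish : ∀ c, c ∈ Cfsg.relCharDegrees M → 1 < Nat.gcd (a : ℕ) c → 1 < Nat.gcd c (b : ℕ) →
      ∃ c : ↥(Cfsg.relCharDegrees N), 1 < Nat.gcd (a : ℕ) c ∧ 1 < Nat.gcd (c : ℕ) b :=
    fun c hc h1 h2 => ⟨⟨c, hup hc⟩, h1, h2⟩
  -- a prime whose characters do not all have orbits prime to it settles the matter
  by_cases hμ : ∃ s : ℕ, s.Prime ∧ s ∣ (commutator M).index ∧ ∃ l : M →* ℂˣ, IsR s l ∧ l ≠ 1 ∧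
      s ∣ (stab (G := G) l).index
  · obtain ⟨s, hs, hsd, μ, hμR, hμ1, hμd⟩ := hμ
    haveI := Fact.mk hs
    obtain ⟨hxs, has, hbs⟩ := hprimes s hs hsd
    have hside : ∀ y : ↥(Cfsg.relCharDegrees N), (y : ℕ) ∈ Cfsg.relCharDegrees M → ¬ s ∣ (y : ℕ) →
        ¬ (Γ).Reachable x y →
        ∃ δ : M →* ℂˣ, IsR s δ ∧ δ ≠ 1 ∧ ¬ s ∣ (stab (G := G) δ).index ∧ (stab (G := G) δ).index ∣ (y : ℕ) := by
      intro y hy hys hxy
      rcases multiple_or_adj hMG (hfree s hs hsd) hy hys with h | h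
      · exact h
      · obtain ⟨c, hc, hcd, hg⟩ := h μ hμR hμ1
        exact absurd ((hlink x ⟨c, hup hc⟩ s hs.one_lt hxs (hμd.trans hcd)).trans
          (reachable_of_gcd (a := y) (b := ⟨c, hup hc⟩) hg).symm) hxy
    obtain ⟨δ, hδ, hδ1, hδr, hδa⟩ := hside a ha has hxa
    obtain ⟨δ', hδ', hδ1', hδr', hδb⟩ := hside b hb hbs hxb
    obtain ⟨c, hc, h1, h2⟩ := near_of_orbits hMG (hfree s hs hsd) hδ hδ1 hδr hδ' hδ1' hδr'
      (degree_ne_zero a) hδa hδb
    exact finish c hc h1 h2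
  push Not at hμ
  -- linear constituents give multiples of small orbits
  have hlin : ∀ y : ↥(Cfsg.relCharDegrees N), (y : ℕ) ∈ Cfsg.relCharDegrees M →
      (y : ℕ) ∈ Cfsg.relCharDegrees ((commutator M).map M.subtype) ∨
      ∃ (s : ℕ) (_ : s.Prime) (_ : s ∣ (commutator M).index) (δ : M →* ℂˣ),
        IsR s δ ∧ δ ≠ 1 ∧ ¬ s ∣ (stab (G := G) δ).index ∧ (stab (G := G) δ).index ∣ (y : ℕ) := by
    intro y hy
    rcases linear_or_derived hMG hy with h | ⟨l, hl, hld⟩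
    · exact Or.inl h
    obtain ⟨s, hs, hsd, hne'⟩ := exists_part hl
    haveI := Fact.mk hs
    refine Or.inr ⟨s, hs, hsd, _, isR_pow_ordM l, hne', hμ s hs hsd _ (isR_pow_ordM l) hne', ?_⟩
    refine (Subgroup.index_dvd_of_le ?_).trans hld
    intro g hg
    rw [mem_stab, map_pow, mem_stab.1 hg]
  have hk : ∀ (s : ℕ) (δ : M →* ℂˣ), s.Prime → s ∣ (commutator M).index → IsR s δ → δ ≠ 1 →
      1 < (stab (G := G) δ).index := fun s δ hs hsd h h1 => one_lt_index (hfree s hs hsd) h h1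
  -- the third degree survives in the derived subgroup
  have hx' : (x : ℕ) ∈ Cfsg.relCharDegrees ((commutator M).map M.subtype) := by
    refine (hlin x hx).resolve_right ?_
    rintro ⟨s, hs, hsd, δ, hδ, hδ1, hδr, hδx⟩
    haveI := Fact.mk hs
    obtain ⟨c, hc, hcd⟩ := exists_over_linear hMG hδ1
    refine hxa ((hlink x ⟨c, hup hc⟩ _ (hk s δ hs hsd hδ hδ1) hδx hcd).trans ?_)
    exact (hM' ⟨a, ha⟩ ⟨c, hc⟩ (reachable_orbit hMG (hfree s hs hsd) hδ hδ1 hδr ⟨a, ha⟩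
      (hprimes s hs hsd).2.1 (b := ⟨c, hc⟩) hcd)).symm
  -- one linear constituent settles the matter
  have hone : ∀ u v : ↥(Cfsg.relCharDegrees N), (u : ℕ) ∈ Cfsg.relCharDegrees M →
      (v : ℕ) ∈ Cfsg.relCharDegrees M →
      (∀ (s : ℕ) (hs : s.Prime), s ∣ (commutator M).index → ¬ s ∣ (v : ℕ)) →
      ∀ (s : ℕ) (δ : M →* ℂˣ), s.Prime → s ∣ (commutator M).index → IsR s δ → δ ≠ 1 →
        ¬ s ∣ (stab (G := G) δ).index → (stab (G := G) δ).index ∣ (u : ℕ) →
        ∃ c ∈ Cfsg.relCharDegrees M, 1 < Nat.gcd (u : ℕ) c ∧ 1 < Nat.gcd c (v : ℕ) := by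
    intro u v hu hv hvs s δ hs hsd hδ hδ1 hδr hδu
    haveI := Fact.mk hs
    rcases multiple_or_adj hMG (hfree s hs hsd) hv (hvs s hs hsd) with ⟨δ', hδ', hδ1', hδr', hδv⟩ | h
    · exact near_of_orbits hMG (hfree s hs hsd) hδ hδ1 hδr hδ' hδ1' hδr' (degree_ne_zero u) hδu hδv
    · obtain ⟨c, hc, hcd, hg⟩ := h δ hδ hδ1
      exact ⟨c, hc, one_lt_gcd (degree_ne_zero u) (hk s δ hs hsd hδ hδ1) hδu hcd, Nat.gcd_comm c v ▸ hg⟩
  rcases hlin a ha with ha' | ⟨s, hs, hsd, δ, hδ, hδ1, hδr, hδa⟩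
  · rcases hlin b hb with hb' | ⟨s, hs, hsd, δ, hδ, hδ1, hδr, hδb⟩
    · refine ih _ (hn ▸ card_derived_lt hne) ((commutator M).map M.subtype) rfl inferInstance ?_ ?_
        x a b hx' ha' hb' hxa hxb
      · exact (Subgroup.map_subtype_le _).trans hMN
      · exact Group.isSolvable_of_isSolvable_injective (f := ((commutator M).equivMapOfInjective M.subtype
          M.subtype_injective).symm.toMonoidHom) (MulEquiv.injective _)
    · obtain ⟨c, hc, h1, h2⟩ := hone b a hb ha (fun s hs hsd => (hprimes s hs hsd).2.1)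
        s δ hs hsd hδ hδ1 hδr hδb
      exact finish c hc (Nat.gcd_comm c a ▸ h2) (Nat.gcd_comm b c ▸ h1)
  · obtain ⟨c, hc, h1, h2⟩ := hone a b ha hb (fun s hs hsd => (hprimes s hs hsd).2.2)
      s δ hs hsd hδ hδ1 hδr hδa
    exact finish c hc h1 h2

include hNG in
/-- In a disconnected graph some component is complete and the other has diameter at most two. -/
theorem disconnected_shape [Group.IsSolvable N] (hdisc : ¬ (Γ).Preconnected) :
    ∃ a₀ : ↥(Cfsg.relCharDegrees N),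
      (∀ b c, (Γ).Reachable a₀ b → (Γ).Reachable a₀ c → b ≠ c → (Γ).Adj b c) ∧
      (∀ b c, ¬ (Γ).Reachable a₀ b → ¬ (Γ).Reachable a₀ c → b ≠ c →
        (Γ).Adj b c ∨ ∃ d, (Γ).Adj b d ∧ (Γ).Adj d c) := by
  classical
  haveI := Fintype.ofFinite N
  obtain ⟨u, v, huv⟩ : ∃ u v, ¬ (Γ).Reachable u v := by
    simpa [SimpleGraph.Preconnected] using hdisc
  have hne : N ≠ ⊥ := by
    rintro rfl
    obtain ⟨χ, ⟨y, hy, hy'⟩, -⟩ := u.2
    exact hy' (by rw [Subgroup.mem_bot.1 hy])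
  obtain ⟨r, hr, hrd⟩ := Nat.exists_prime_and_dvd (index_ne_one (M := N) hne)
  haveI := Fact.mk hr
  obtain ⟨a₀, y, ha₀, hy, hnr⟩ : ∃ a₀ y : ↥(Cfsg.relCharDegrees N),
      r ∣ (a₀ : ℕ) ∧ ¬ r ∣ (y : ℕ) ∧ ¬ (Γ).Reachable a₀ y := by
    by_cases hu : r ∣ (u : ℕ)
    · exact ⟨u, v, hu, fun h => huv (reachable_same_side hNG hrd (iff_of_true hu h)), huv⟩
    · exact ⟨v, u, by_contra fun h => huv (reachable_same_side hNG hrd (iff_of_false hu h)), hu,
        fun h => huv h.symm⟩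
  have hiff : ∀ b, (Γ).Reachable a₀ b ↔ r ∣ (b : ℕ) := fun b => by
    refine ⟨fun h => ?_, fun h => reachable_same_side hNG hrd (iff_of_true ha₀ h)⟩
    by_contra hb
    exact hnr (h.trans (reachable_same_side hNG hrd (iff_of_false hb hy)))
  refine ⟨a₀, fun b c hb hc hbc => ⟨fun e => hbc (Subtype.ext e), one_lt_gcd (degree_ne_zero b) hr.one_lt
    ((hiff b).1 hb) ((hiff c).1 hc)⟩, fun b c hb hc hbc => ?_⟩
  obtain ⟨d, h1, h2⟩ := near_of_not_reachable hNG N inferInstance le_rfl inferInstance a₀ b c a₀.2 b.2 c.2 hb hc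
  by_cases e1 : (b : ℕ) = d
  · exact Or.inl ⟨fun e => hbc (Subtype.ext e), show 1 < Nat.gcd (b : ℕ) c by rw [e1]; exact h2⟩
  by_cases e2 : (d : ℕ) = c
  · exact Or.inl ⟨fun e => hbc (Subtype.ext e), show 1 < Nat.gcd (b : ℕ) c by rw [← e2]; exact h1⟩
  exact Or.inr ⟨d, ⟨e1, h1⟩, ⟨e2, h2⟩⟩

end CfsgLib.RelGraph
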